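import Mathlib
import Cfsg.Agent.Lib.ZStar.EC.Basic
import Cfsg.Agent.Lib.Blocks.Third
import Cfsg.Agent.Lib.Char.Ortho

/-!
# Extremely closed abelian `2`-subgroups: fixed spaces of subgroups in irreducible representations
-/

set_option autoImplicit false
set_option linter.unusedSectionVars false
set_option linter.style.haveILetI false

namespace Cfsg.Agent.Lib.ZStar.EC

open Cfsg Subgroup Module
open Cfsg.Agent.Lib.Blocks.Third
open scoped ComplexConjugate

universe u v

variable {G : Type u} [Group G] [Fintype G]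

section rep

variable {V : Type v} [AddCommGroup V] [Module ℂ V] [FiniteDimensional ℂ V]
  (ρ : Representation ℂ G V)

/-- The space fixed by a subgroup. -/
noncomputable abbrev fixOf (H : Subgroup G) : Submodule ℂ V :=
  Representation.invariants (ρ.comp H.subtype)

theorem mem_fixOf {H : Subgroup G} {v : V} : v ∈ fixOf ρ H ↔ ∀ a ∈ H, ρ a v = v := by
  constructor
  · intro h a ha
    exact h ⟨a, ha⟩
  · intro h a
    exact h a a.2

theorem sum_trace_eq_finrank (H : Subgroup G) [Fintype H] :
    ∑ a : H, LinearMap.trace ℂ V (ρ a) = (Nat.card H : ℂ) * finrank ℂ (fixOf ρ H) := by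
  classical
  have hne : (Fintype.card H : ℂ) ≠ 0 := by
    exact_mod_cast Fintype.card_ne_zero
  letI : Invertible (Fintype.card H : ℂ) := invertibleOfNonzero hne
  have h := (Representation.isProj_averageMap (ρ.comp H.subtype)).trace
  have h2 : LinearMap.trace ℂ V (Representation.averageMap (ρ.comp H.subtype)) =
      (Fintype.card H : ℂ)⁻¹ * ∑ a : H, LinearMap.trace ℂ V (ρ a) := by
    simp [Representation.averageMap, GroupAlgebra.average, _root_.map_sum, invOf_eq_inv]
  rw [h2] at h
  rw [← Nat.card_eq_fintype_card] at *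
  have hne' : (Nat.card H : ℂ) ≠ 0 := hne
  field_simp at h
  rw [← h]

theorem finrank_fixOf_cj (H : Subgroup G) (a : G) :
    finrank ℂ (fixOf ρ (cj a H)) = finrank ℂ (fixOf ρ H) := by
  classical
  letI : Fintype H := Fintype.ofFinite _
  letI : Fintype (cj a H) := Fintype.ofFinite _
  have h1 := sum_trace_eq_finrank ρ H
  have h2 := sum_trace_eq_finrank ρ (cj a H)
  have h3 : ∑ y : cj a H, LinearMap.trace ℂ V (ρ y) = ∑ h : H, LinearMap.trace ℂ V (ρ h) := by
    symm
    refine Fintype.sum_equiv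
      (H.equivMapOfInjective (MulAut.conj a).toMonoidHom (MulAut.conj a).injective).toEquiv _ _ ?_
    intro h
    have : (((H.equivMapOfInjective (MulAut.conj a).toMonoidHom (MulAut.conj a).injective).toEquiv h :
        cj a H) : G) = a * h * a⁻¹ := rfl
    have e3 : ρ (a * h * a⁻¹) = ρ (a * h) * ρ a⁻¹ := ρ.map_mul _ _
    rw [this, e3, LinearMap.trace_mul_comm, ← ρ.map_mul]
    congr 2
    group
  rw [h3, h1, card_cj] at h2
  have hne : (Nat.card H : ℂ) ≠ 0 := Nat.cast_ne_zero.mpr Nat.card_pos.ne'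
  have h4 := mul_left_cancel₀ hne h2
  exact_mod_cast h4.symm

/-- `3 m ≤ 2 d` when three conjugates generate and the only invariant is zero. -/
theorem three_mul_finrank_le (H : Subgroup G) (a b : G) (htop : H ⊔ cj a H ⊔ cj b H = ⊤)
    (hinv : Representation.invariants ρ = ⊥) :
    3 * finrank ℂ (fixOf ρ H) ≤ 2 * finrank ℂ V := by
  classical
  set W₁ := fixOf ρ H with hW₁
  set W₂ := fixOf ρ (cj a H) with hW₂
  set W₃ := fixOf ρ (cj b H) with hW₃
  have h2 : finrank ℂ W₂ = finrank ℂ W₁ := finrank_fixOf_cj ρ H a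
  have h3 : finrank ℂ W₃ = finrank ℂ W₁ := finrank_fixOf_cj ρ H b
  have hbot : W₁ ⊓ W₂ ⊓ W₃ = ⊥ := by
    rw [eq_bot_iff, ← hinv]
    rintro v ⟨⟨hv1, hv2⟩, hv3⟩
    let S : Subgroup G :=
      { carrier := {g | ρ g v = v}
        one_mem' := by simp
        mul_mem' := by
          intro x y hx hy
          change ρ (x * y) v = v
          change ρ x v = v at hx
          change ρ y v = v at hy
          rw [map_mul, Module.End.mul_apply, hy, hx]
        inv_mem' := by
          intro x hx
          change ρ x⁻¹ v = v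
          change ρ x v = v at hx
          conv_lhs => rw [← hx]
          rw [← Module.End.mul_apply, ← map_mul]
          simp }
    have hS : (⊤ : Subgroup G) ≤ S := by
      rw [← htop]
      refine sup_le (sup_le ?_ ?_) ?_
      · exact fun x hx => (mem_fixOf ρ).mp hv1 x hx
      · exact fun x hx => (mem_fixOf ρ).mp hv2 x hx
      · exact fun x hx => (mem_fixOf ρ).mp hv3 x hx
    intro g
    exact hS (Subgroup.mem_top g)
  have e1 := Submodule.finrank_sup_add_finrank_inf_eq W₁ W₂
  have e2 := Submodule.finrank_sup_add_finrank_inf_eq (W₁ ⊓ W₂) W₃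
  rw [hbot, finrank_bot] at e2
  have l1 : finrank ℂ (W₁ ⊔ W₂ : Submodule ℂ V) ≤ finrank ℂ V := Submodule.finrank_le _
  have l2 : finrank ℂ ((W₁ ⊓ W₂) ⊔ W₃ : Submodule ℂ V) ≤ finrank ℂ V := Submodule.finrank_le _
  omega

end rep

/-- An irreducible representation with a nonzero invariant vector is trivial. -/
theorem invariants_eq_bot_of_irr {n : ℕ} {ρ : Representation ℂ G (Fin n → ℂ)}
    (hρ : ρ.IsIrreducible) (h : ¬ ∀ g, ρ g = 1) : Representation.invariants ρ = ⊥ := by
  let S : Subrepresentation ρ :=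
    { toSubmodule := Representation.invariants ρ
      apply_mem_toSubmodule := by
        intro g v hv x
        rw [hv g]
        exact hv x }
  rcases hρ.eq_bot_or_eq_top S with h1 | h1
  · have : S.toSubmodule = (⊥ : Subrepresentation ρ).toSubmodule := by rw [h1]
    exact this
  · exfalso
    apply h
    intro g
    refine LinearMap.ext fun v => ?_
    have hv : v ∈ S := by
      rw [h1]
      trivial
    have : ρ g v = v := hv g
    rw [this]
    simp

variable [Fintype (IrrCharacter G)]

theorem eq_oneI_of_forall {χ : IrrCharacter G} (hall : ∀ g : G, (χ : G → ℂ) g = (χ : G → ℂ) 1) :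
    χ = oneI G := by
  classical
  have hn := Cfsg.Agent.Lib.Char.Ortho.classInner_self_of_isIrr χ.2
  rw [Cfsg.Agent.Lib.Char.Ortho.classInner_def] at hn
  simp_rw [hall] at hn
  rw [Finset.sum_const, Finset.card_univ, nsmul_eq_mul, ← Nat.card_eq_fintype_card] at hn
  have hG : (Nat.card G : ℂ) ≠ 0 := Nat.cast_ne_zero.mpr Nat.card_pos.ne'
  have h2 : (χ : G → ℂ) 1 * conj ((χ : G → ℂ) 1) = 1 := by
    have : (Nat.card G : ℂ)⁻¹ * ((Nat.card G : ℂ) * ((χ : G → ℂ) 1 * conj ((χ : G → ℂ) 1))) = 1 := hn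
    rwa [inv_mul_cancel_left₀ hG] at this
  obtain ⟨n, -, hnn⟩ := Cfsg.Agent.Lib.Char.Complete.exists_pos_deg_of_isIrr χ.2
  rw [hnn, Complex.conj_natCast] at h2
  have h3 : n * n = 1 := by exact_mod_cast h2
  have h4 : n = 1 := Nat.eq_one_of_mul_eq_one_right h3
  apply Subtype.ext
  funext g
  rw [hall g, hnn, h4]
  simp

/-- The sum of an irreducible character over a subgroup: a multiple of the order. -/
theorem exists_sum_eq (χ : IrrCharacter G) (H : Subgroup G) [Fintype H] :
    ∃ m : ℕ, ∑ a : H, (χ : G → ℂ) a = (Nat.card H : ℂ) * m := by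
  obtain ⟨n, ρ, -, e⟩ := χ.2
  refine ⟨finrank ℂ (fixOf ρ H), ?_⟩
  rw [← sum_trace_eq_finrank, ← e]
  rfl

/-- The bound on the multiplicity, from three conjugates which generate. -/
theorem three_mul_le (χ : IrrCharacter G) (hχ : χ ≠ oneI G) (H : Subgroup G) [Fintype H]
    {a b : G} (htop : H ⊔ cj a H ⊔ cj b H = ⊤) {m d : ℕ}
    (hm : ∑ a : H, (χ : G → ℂ) a = (Nat.card H : ℂ) * m) (hd : (χ : G → ℂ) 1 = d) :
    3 * m ≤ 2 * d := by
  classical
  obtain ⟨n, ρ, hρ, e⟩ := χ.2
  have hχval : ∀ g, (χ : G → ℂ) g = LinearMap.trace ℂ (Fin n → ℂ) (ρ g) := by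
    intro g
    rw [← e]
    rfl
  have hinv : Representation.invariants ρ = ⊥ := by
    apply invariants_eq_bot_of_irr hρ
    intro hall
    apply hχ
    apply eq_oneI_of_forall
    intro g
    rw [hχval, hχval, hall, hall]
  have h := three_mul_finrank_le ρ H a b htop hinv
  have h1 := sum_trace_eq_finrank ρ H
  have h2 : (m : ℂ) = finrank ℂ (fixOf ρ H) := by
    have hne : (Nat.card H : ℂ) ≠ 0 := Nat.cast_ne_zero.mpr Nat.card_pos.ne'
    apply mul_left_cancel₀ hne
    rw [← hm, ← h1]
    exact Finset.sum_congr rfl fun x _ => hχval x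
  have h3 : (d : ℂ) = finrank ℂ (Fin n → ℂ) := by
    rw [← hd, hχval, ρ.map_one, LinearMap.trace_one]
  have h4 : m = finrank ℂ (fixOf ρ H) := by exact_mod_cast h2
  have h5 : d = finrank ℂ (Fin n → ℂ) := by exact_mod_cast h3
  rw [h4, h5]
  exact h

end Cfsg.Agent.Lib.ZStar.EC
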