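import Mathlib
import Cfsg.Agent.Lib.ZStar.EC.Basic
import Cfsg.Agent.Lib.Blocks.General
import Cfsg.Agent.Lib.Blocks.PPart

/-!
# Extremely closed abelian `2`-subgroups: centralizers and values of principal block characters
-/

set_option autoImplicit false
set_option linter.unusedSectionVars false
set_option linter.style.haveILetI false

namespace Cfsg.Agent.Lib.ZStar.EC

open Cfsg Subgroup

universe u

variable {G : Type u} [Group G] [Finite G]

variable {H : Subgroup G}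

theorem comm_of_ab (hab : IsMulCommutative H) {a b : G} (ha : a ∈ H) (hb : b ∈ H) : a * b = b * a := by
  have := hab.is_comm.comm ⟨a, ha⟩ ⟨b, hb⟩
  exact congrArg Subtype.val this

theorem le_centralizer_of_ab (hab : IsMulCommutative H) {t : G} (ht : t ∈ H) :
    H ≤ centralizer ({t} : Set G) := by
  intro a ha
  rw [Subgroup.mem_centralizer_singleton_iff]
  exact comm_of_ab hab ha ht

/-- Elements of a complement commuting with `t` lie in `O(C(t))`. -/
theorem mem_core_of_mem_comp (hH : IsPGroup 2 H) {g : G} {K : Subgroup G}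
    (hc : IsComp H g K) {C : Subgroup G} (hHC : H ≤ C)
    (hIH : normalizer ((H.subgroupOf C : Subgroup _) : Set C) ⊔ pPrimeCore 2 C = ⊤)
    {u : C} (hu : (u : G) ∈ K) : u ∈ pPrimeCore 2 C := by
  classical
  haveI : Fact (Nat.Prime 2) := ⟨Nat.prime_two⟩
  set O' : Subgroup C := pPrimeCore 2 C with hO'
  haveI hO'n : O'.Normal := Cfsg.pPrimeCore_normal 2 C
  set OC : Subgroup G := O'.map C.subtype with hOC
  have hOCodd : Odd (Nat.card OC) := by
    have h1 : Nat.card OC = Nat.card O' :=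
      Nat.card_congr (Subgroup.equivMapOfInjective _ _ C.subtype_injective).symm.toEquiv
    rw [h1]
    exact Nat.Coprime.odd_of_right Cfsg.Agent.Lib.Core.Basic.pPrimeCore_coprime
  have hOCn : ∀ s ∈ H, ∀ k ∈ OC, s * k * s⁻¹ ∈ OC := by
    rintro s hs _ ⟨k, hk, rfl⟩
    exact ⟨⟨s, hHC hs⟩ * k * ⟨s, hHC hs⟩⁻¹, hO'n.conj_mem k hk ⟨s, hHC hs⟩, rfl⟩
  -- decomposition of `u`
  have hmem : u ∈ normalizer ((H.subgroupOf C : Subgroup _) : Set C) ⊔ O' := by
    rw [hIH]
    exact Subgroup.mem_top u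
  obtain ⟨n, hn, v, hv, e⟩ := Subgroup.mem_sup_of_normal_right.mp hmem
  set v' : C := n * v * n⁻¹ with hv'
  have hv'O : v' ∈ O' := hO'n.conj_mem v hv n
  have euv : u = v' * n := by
    rw [hv', ← e]
    group
  have hnG : (n : G) ∈ normalizer (H : Set G) := by
    apply Cfsg.Agent.Lib.HSubgroup.Basic.mem_normalizer_of_conj_le
    intro x hx
    have h1 : (⟨x, hHC hx⟩ : C) ∈ H.subgroupOf C := Subgroup.mem_subgroupOf.mpr hx
    have h2 := (mem_normalizer_iff.mp hn _).mp h1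
    exact Subgroup.mem_subgroupOf.mp h2
  have hcju : cj (u : G) H = cj (v' : G) H := by
    rw [euv, Subgroup.coe_mul, ← cj_cj, cj_eq_self_of_normalizer hnG]
  -- the join
  have hle1 : cj (u : G) H ≤ OC ⊔ H := by
    rw [hcju]
    intro y hy
    rw [mem_cj] at hy
    have e1 : y = ((v' : G) * ((v' : G)⁻¹ * y * v') * (v' : G)⁻¹) := by group
    rw [e1]
    set s := (v' : G)⁻¹ * y * v' with hs
    have e2 : (v' : G) * s * (v' : G)⁻¹ = ((v' : G) * (s * (v' : G)⁻¹ * s⁻¹)) * s := by group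
    rw [e2]
    refine Subgroup.mul_mem _ (Subgroup.mem_sup_left ?_) (Subgroup.mem_sup_right hy)
    refine OC.mul_mem ⟨v', hv'O, rfl⟩ (hOCn s hy _ ⟨v'⁻¹, O'.inv_mem hv'O, rfl⟩)
  have hle2 : cj (u : G) H ≤ K ⊔ H := by
    intro y hy
    rw [mem_cj] at hy
    have e1 : y = ((u : G) * ((u : G)⁻¹ * y * u) * (u : G)⁻¹) := by group
    rw [e1]
    set s := (u : G)⁻¹ * y * u with hs
    have e2 : (u : G) * s * (u : G)⁻¹ = ((u : G) * (s * (u : G)⁻¹ * s⁻¹)) * s := by group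
    rw [e2]
    refine Subgroup.mul_mem _ (Subgroup.mem_sup_left ?_) (Subgroup.mem_sup_right hy)
    exact K.mul_mem hu (hc.norm s hy _ (K.inv_mem hu))
  set X' : Subgroup G := H ⊔ cj (u : G) H with hX'
  set K' : Subgroup G := X' ⊓ K with hK'
  have hK'odd : Odd (Nat.card K') :=
    Odd.of_dvd_nat hc.odd (Subgroup.card_dvd_of_le inf_le_right)
  have hK'n : ∀ s ∈ H, ∀ k ∈ K', s * k * s⁻¹ ∈ K' := by
    intro s hs k hk
    refine ⟨?_, hc.norm s hs k hk.2⟩
    have hsX : s ∈ X' := Subgroup.mem_sup_left hs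
    exact X'.mul_mem (X'.mul_mem hsX hk.1) (X'.inv_mem hsX)
  have hle3 : cj (u : G) H ≤ K' ⊔ H := by
    intro y hy
    obtain ⟨k, hk, s, hs, e3⟩ := exists_mul_of_mem_sup hc.norm (hle2 hy)
    have hkX : k ∈ X' := by
      have e4 : k = y * s⁻¹ := by rw [e3]; group
      rw [e4]
      exact X'.mul_mem (Subgroup.mem_sup_right hy) (X'.inv_mem (Subgroup.mem_sup_left hs))
    rw [e3]
    exact Subgroup.mul_mem _ (Subgroup.mem_sup_left ⟨hkX, hk⟩) (Subgroup.mem_sup_right hs)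
  obtain ⟨c, hcK', hcj⟩ := conj_of_le hK'odd hH hK'n hle3 (card_cj _ H)
  have hcO : c ∈ OC := by
    have hcX : c ∈ OC ⊔ H := by
      refine (sup_le le_sup_right hle1 : X' ≤ OC ⊔ H) hcK'.1
    exact mem_of_odd hOCodd hH hOCn hcX (odd_orderOf_of_mem hK'odd hcK')
  have h1 : (u : G)⁻¹ * c ∈ K := K.mul_mem (K.inv_mem hu) hcK'.2
  have h2 : (u : G)⁻¹ * c ∈ normalizer (H : Set G) := by
    apply mem_normalizer_of_cj_eq
    rw [← cj_cj, ← hcj, cj_cj, inv_mul_cancel, cj_one]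
  have h3 := hc.triv _ h1 h2
  have h4 : c = u := by
    have := mul_left_cancel (a := (u : G)⁻¹) (b := c) (c := u) (by rw [h3]; group)
    exact this
  rw [h4] at hcO
  obtain ⟨w, hw, e5⟩ := hcO
  have : w = u := Subtype.ext e5
  rwa [this] at hw

open Cfsg.Agent.Lib.Blocks.Central Cfsg.Agent.Lib.Blocks.Weak Cfsg.Agent.Lib.Blocks.Third
open Cfsg.Agent.Lib.Blocks.General

variable [Fintype G] [Fintype (IrrCharacter G)]

/-- **The value of a principal block character on `K H`.** -/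
theorem value_eq_of_mul {M : Ideal AlgInt} (hM : IsPModular 2 M) (hH : IsPGroup 2 H)
    (hab : IsMulCommutative H) {g : G} {K : Subgroup G} (hc : IsComp H g K)
    (hIH : ∀ t ∈ H, t ≠ 1 → normalizer ((H.subgroupOf (centralizer ({t} : Set G)) : Subgroup _) :
      Set (centralizer ({t} : Set G))) ⊔ pPrimeCore 2 (centralizer ({t} : Set G)) = ⊤)
    {k t : G} (hk : k ∈ K) (ht : t ∈ H) (ht1 : t ≠ 1) {χ : IrrCharacter G}
    (hχ : χ ∈ principalBlock M G) : (χ : G → ℂ) (k * t) = (χ : G → ℂ) t := by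
  classical
  haveI : Fact (Nat.Prime 2) := ⟨Nat.prime_two⟩
  haveI := hM.2.1.isPrime
  have hcl := Cfsg.Agent.Lib.Char.Basic.isClassFunction_of_isIrrCharacter χ.2
  obtain ⟨x, r, e, hcomm, hx, hr⟩ := Cfsg.Agent.Lib.Blocks.PPart.exists_pPart_y (p := 2) (k * t)
  have hpart : IsPPart 2 (k * t) x := ⟨r, e, hcomm, hx, hr⟩
  have hxz : x ∈ zpowers (k * t) := Cfsg.Agent.Lib.Blocks.PPart.isPPart_mem_zpowers hpart
  have hw : k * t ∈ K ⊔ H :=
    Subgroup.mul_mem _ (Subgroup.mem_sup_left hk) (Subgroup.mem_sup_right ht)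
  have hxX : x ∈ K ⊔ H := (zpowers_le.mpr hw) hxz
  have hrX : r ∈ K ⊔ H := by
    have : r = x⁻¹ * (k * t) := by rw [← e]; group
    rw [this]
    exact Subgroup.mul_mem _ (Subgroup.inv_mem _ hxX) hw
  have hrodd : Odd (orderOf r) := Nat.not_even_iff_odd.mp (fun h => hr (even_iff_two_dvd.mp h))
  have hrK : r ∈ K := mem_of_odd hc.odd hH hc.norm hrX hrodd
  -- the conjugate
  have hzp : IsPGroup 2 (zpowers x) := by
    obtain ⟨j, hj⟩ := hx
    apply IsPGroup.of_card (n := j)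
    rw [Nat.card_zpowers, hj]
  obtain ⟨c, hcK, hle⟩ := exists_conj_le hc.odd hH hc.norm (zpowers_le.mpr hxX) hzp
  have ht' : c⁻¹ * x * c ∈ H := mem_cj.mp (hle (mem_zpowers x))
  set t' := c⁻¹ * x * c with ht'def
  -- `t' = t`
  have htt : t' = t := by
    have e1 : x = c * t' * c⁻¹ := by rw [ht'def]; group
    have e2 : k * t = (c * (t' * c⁻¹ * t'⁻¹)) * (t' * r * t'⁻¹) * t' := by
      rw [← e, e1]
      group
    set k₂ := (c * (t' * c⁻¹ * t'⁻¹)) * (t' * r * t'⁻¹) with hk₂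
    have hk₂K : k₂ ∈ K :=
      K.mul_mem (K.mul_mem hcK (hc.norm _ ht' _ (K.inv_mem hcK))) (hc.norm _ ht' _ hrK)
    have e3 : t' * t⁻¹ = k₂⁻¹ * k := by
      have : k₂ * t' = k * t := e2.symm
      calc t' * t⁻¹ = k₂⁻¹ * (k₂ * t') * t⁻¹ := by group
        _ = k₂⁻¹ * (k * t) * t⁻¹ := by rw [this]
        _ = k₂⁻¹ * k := by group
    have h4 : t' * t⁻¹ = 1 :=
      eq_one_of_mem_inf hc.odd hH (H.mul_mem ht' (H.inv_mem ht))
        (by rw [e3]; exact K.mul_mem (K.inv_mem hk₂K) hk)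
    exact mul_inv_eq_one.mp h4
  set r' := c⁻¹ * r * c with hr'def
  have hr'K : r' ∈ K := K.mul_mem (K.mul_mem (K.inv_mem hcK) hrK) hcK
  have hcomm' : Commute t r' := by
    have h1 : Commute t' r' := by
      have h2 := hcomm.map (MulAut.conj c⁻¹)
      simpa [MulAut.conj_apply, ht'def, hr'def, mul_assoc] using h2
    rwa [htt] at h1
  have hval : c⁻¹ * (k * t) * c = t * r' := by
    calc c⁻¹ * (k * t) * c = c⁻¹ * (x * r) * c := by rw [e]
      _ = (c⁻¹ * x * c) * (c⁻¹ * r * c) := by group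
      _ = t * r' := by rw [← ht'def, htt]
  let v : centralizer ({t} : Set G) :=
    ⟨r', Subgroup.mem_centralizer_singleton_iff.mpr hcomm'.eq.symm⟩
  have hv := mem_core_of_mem_comp hH hc (le_centralizer_of_ab hab ht) (hIH t ht ht1) (u := v) hr'K
  have hz := zstar (p := 2) hM (orderOf_two_pow hH ht) hv hχ
  calc (χ : G → ℂ) (k * t) = (χ : G → ℂ) (c⁻¹ * (k * t) * c⁻¹⁻¹) := (hcl _ _).symm
    _ = (χ : G → ℂ) (t * r') := by rw [inv_inv, hval]
    _ = (χ : G → ℂ) t := hz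

end Cfsg.Agent.Lib.ZStar.EC
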