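import Mathlib
import Cfsg.Agent.Lib.ZStar.EC.Local
import Cfsg.Agent.Lib.ZStar.EC.Rep
import Cfsg.Agent.Lib.ZStar.Section

/-!
# Extremely closed abelian `2`-subgroups: identities in the principal block
-/

set_option autoImplicit false
set_option linter.unusedSectionVars false
set_option linter.style.haveILetI false

namespace Cfsg.Agent.Lib.ZStar.EC

open Cfsg Subgroup
open Cfsg.Agent.Lib.Blocks.Central Cfsg.Agent.Lib.Blocks.Weak Cfsg.Agent.Lib.Blocks.Third
open Cfsg.Agent.Lib.Blocks.General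
open Cfsg.Agent.Lib.ZStar.Section
open scoped ComplexConjugate

universe u

variable {G : Type u} [Group G] [Fintype G] [Fintype (IrrCharacter G)]
variable {H : Subgroup G} [Fintype H]

/-- The sum of the values over `H`. -/
noncomputable def tH (H : Subgroup G) [Fintype H] (χ : IrrCharacter G) : ℂ := ∑ a : H, (χ : G → ℂ) a

/-- The hypothesis on centralizers. -/
def CentHyp (H : Subgroup G) : Prop :=
  ∀ t ∈ H, t ≠ 1 → normalizer ((H.subgroupOf (centralizer ({t} : Set G)) : Subgroup _) :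
      Set (centralizer ({t} : Set G))) ⊔ pPrimeCore 2 (centralizer ({t} : Set G)) = ⊤

/-- The sum over a conjugate of `H`, translated by `x`. -/
theorem sum_mul_conj {M : Ideal AlgInt} (hM : IsPModular 2 M) (hH : IsPGroup 2 H)
    (hab : IsMulCommutative H) (hIH : CentHyp H) {g : G} {K : Subgroup G} (hc : IsComp H g K)
    {x : G} (hx : x ∈ H) {c : G} (hcK : c ∈ K) (hcj : cj g H = cj c H) {χ : IrrCharacter G}
    (hχ : χ ∈ principalBlock M G) :
    ∑ a : H, (χ : G → ℂ) (x * (g * a * g⁻¹)) =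
      tH H χ - (χ : G → ℂ) 1 + (χ : G → ℂ) (c * x⁻¹ * c⁻¹ * x) := by
  classical
  have hcl := Cfsg.Agent.Lib.Char.Basic.isClassFunction_of_isIrrCharacter χ.2
  have hn : c⁻¹ * g ∈ normalizer (H : Set G) := by
    apply mem_normalizer_of_cj_eq
    rw [← cj_cj, hcj, cj_cj, inv_mul_cancel, cj_one]
  set n := c⁻¹ * g with hndef
  have hg : g = c * n := by rw [hndef]; group
  let e : H ≃ H :=
    { toFun := fun a => ⟨n * a * n⁻¹, (mem_normalizer_iff.mp hn a).mp a.2⟩
      invFun := fun b => ⟨n⁻¹ * b * n, by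
        have := (mem_normalizer_iff.mp hn (n⁻¹ * (b : G) * n)).mpr
        apply this
        have e1 : n * (n⁻¹ * (b : G) * n) * n⁻¹ = b := by group
        rw [e1]
        exact b.2⟩
      left_inv := fun a => by
        apply Subtype.ext
        simp [mul_assoc]
      right_inv := fun b => by
        apply Subtype.ext
        simp [mul_assoc] }
  have h1 : ∑ a : H, (χ : G → ℂ) (x * (g * a * g⁻¹)) =
      ∑ b : H, (χ : G → ℂ) (c * b * c⁻¹ * x) := by
    refine Fintype.sum_equiv e _ _ fun a => ?_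
    rw [comm_of_class hcl]
    have e1 : g * a * g⁻¹ * x = c * (e a : G) * c⁻¹ * x := by
      change g * a * g⁻¹ * x = c * (n * a * n⁻¹) * c⁻¹ * x
      rw [hg]
      group
    rw [e1]
  have h2 : ∑ b : H, (χ : G → ℂ) (b * x) = tH H χ := by
    unfold tH
    refine Fintype.sum_equiv (Equiv.mulRight (⟨x, hx⟩ : H)) _ _ fun b => ?_
    rfl
  have h3 : ∑ b : H, ((χ : G → ℂ) (c * b * c⁻¹ * x) - (χ : G → ℂ) (b * x)) =
      (χ : G → ℂ) (c * x⁻¹ * c⁻¹ * x) - (χ : G → ℂ) 1 := by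
    rw [Finset.sum_eq_single (⟨x⁻¹, H.inv_mem hx⟩ : H)]
    · simp
    · intro b _ hb
      have hb1 : (b : G) * x ≠ 1 := by
        intro h
        apply hb
        apply Subtype.ext
        exact eq_inv_of_mul_eq_one_left h
      have hk : c * (b * c⁻¹ * (b : G)⁻¹) ∈ K := K.mul_mem hcK (hc.norm _ b.2 _ (K.inv_mem hcK))
      have h4 := value_eq_of_mul hM hH hab hc hIH hk (H.mul_mem b.2 hx) hb1 hχ
      have e2 : c * (b * c⁻¹ * (b : G)⁻¹) * (b * x) = c * b * c⁻¹ * x := by group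
      rw [e2] at h4
      rw [h4, sub_self]
    · intro h
      exact absurd (Finset.mem_univ _) h
  rw [h1]
  rw [Finset.sum_sub_distrib, h2] at h3
  linear_combination h3

/-- **The identity of the sums.** -/
theorem exists_odd_sum {M : Ideal AlgInt} (hM : IsPModular 2 M) (hH : IsPGroup 2 H)
    (hab : IsMulCommutative H) (hcl : IsExtremelyClosed H) (hIH : CentHyp H)
    {x : G} (hx : x ∈ H) :
    ∃ r : G → G, (∀ g, Odd (orderOf (r g))) ∧ ∀ χ ∈ principalBlock M G,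
      ∑ g : G, (χ : G → ℂ) (r g) =
        (Nat.card G : ℂ) * ((χ : G → ℂ) x * tH H χ / (χ : G → ℂ) 1 - tH H χ + (χ : G → ℂ) 1) := by
  classical
  choose K hK using exists_isComp hH hab hcl
  choose c hc hc' using fun g => (hK g).exists_conj hH
  refine ⟨fun g => c g * x⁻¹ * (c g)⁻¹ * x, ?_, ?_⟩
  · intro g
    apply odd_orderOf_of_mem (hK g).odd
    have h1 := (hK g).norm _ (H.inv_mem hx) _ (K g |>.inv_mem (hc g))
    have e1 : c g * x⁻¹ * (c g)⁻¹ * x = c g * (x⁻¹ * (c g)⁻¹ * x⁻¹⁻¹) := by group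
    show c g * x⁻¹ * (c g)⁻¹ * x ∈ K g
    rw [e1]
    exact (K g).mul_mem (hc g) h1
  · intro χ hχ
    have h1 : ∀ g : G, ∑ a : H, (χ : G → ℂ) (x * (g * a * g⁻¹)) =
        tH H χ - (χ : G → ℂ) 1 + (χ : G → ℂ) (c g * x⁻¹ * (c g)⁻¹ * x) :=
      fun g => sum_mul_conj hM hH hab hIH (hK g) hx (hc g) (hc' g) hχ
    have h2 : ∑ g : G, ∑ a : H, (χ : G → ℂ) (x * (g * a * g⁻¹)) =
        (Nat.card G : ℂ) * (χ : G → ℂ) x * tH H χ / (χ : G → ℂ) 1 := by
      rw [Finset.sum_comm]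
      have : ∀ a : H, ∑ g : G, (χ : G → ℂ) (x * (g * a * g⁻¹)) =
          (Nat.card G : ℂ) * (χ : G → ℂ) x * (χ : G → ℂ) a / (χ : G → ℂ) 1 :=
        fun a => sum_conj_mul χ x a
      simp_rw [this]
      unfold tH
      rw [← Finset.sum_div, ← Finset.mul_sum]
    simp_rw [h1] at h2
    rw [Finset.sum_add_distrib, Finset.sum_const, Finset.card_univ, nsmul_eq_mul,
      ← Nat.card_eq_fintype_card] at h2
    have h3 := eq_sub_of_add_eq' h2
    rw [h3]
    ring

/-- The gap inequality. -/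
theorem norm_value_le {M : Ideal AlgInt} (hM : IsPModular 2 M) (hH : IsPGroup 2 H)
    (hab : IsMulCommutative H) (hcl : IsExtremelyClosed H) (hIH : CentHyp H)
    {x : G} (hx : x ∈ H) {χ : IrrCharacter G} (hχ : χ ∈ principalBlock M G) {d : ℕ}
    (hd : (χ : G → ℂ) 1 = d) :
    ‖(χ : G → ℂ) x * tH H χ / (χ : G → ℂ) 1 - tH H χ + (χ : G → ℂ) 1‖ ≤ d := by
  classical
  obtain ⟨r, -, hr⟩ := exists_odd_sum hM hH hab hcl hIH hx
  have h1 := hr χ hχ
  have hchar := Cfsg.Agent.Lib.Char.Basic.isCharacter_of_isIrrCharacter χ.2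
  have hdeg : Cfsg.charDegree (χ : G → ℂ) = d :=
    Cfsg.Agent.Lib.Char.Degree.charDegree_eq_of_eq_natCast hd
  have h2 : ‖∑ g : G, (χ : G → ℂ) (r g)‖ ≤ (Nat.card G : ℝ) * d := by
    refine (_root_.norm_sum_le _ _).trans ?_
    have : ∀ g ∈ (Finset.univ : Finset G), ‖(χ : G → ℂ) (r g)‖ ≤ (d : ℝ) := by
      intro g _
      have := Cfsg.Agent.Lib.Char.Degree.norm_le_charDegree hchar (r g)
      rwa [hdeg] at this
    have h3 := Finset.sum_le_card_nsmul _ _ _ this
    rw [Finset.card_univ, nsmul_eq_mul, ← Nat.card_eq_fintype_card] at h3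
    exact h3
  rw [h1, norm_mul, Complex.norm_natCast] at h2
  have hG : (0 : ℝ) < Nat.card G := by exact_mod_cast Nat.card_pos
  exact le_of_mul_le_mul_left h2 hG

/-! ### Summing over the principal block -/

open Classical in
/-- The principal block, as a finite set. -/
noncomputable def BB (M : Ideal AlgInt) (G : Type u) [Group G] [Fintype G]
    [Fintype (IrrCharacter G)] : Finset (IrrCharacter G) :=
  Finset.univ.filter (· ∈ principalBlock M G)

theorem mem_BB {M : Ideal AlgInt} {χ : IrrCharacter G} : χ ∈ BB M G ↔ χ ∈ principalBlock M G := by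
  classical
  simp [BB]

theorem secSum_eq_sum (M : Ideal AlgInt) (y g : G) :
    secSum M y g = ∑ χ ∈ BB M G, (χ : G → ℂ) g * conj ((χ : G → ℂ) y) := by
  classical
  unfold secSum BB
  rw [Finset.sum_filter]

theorem secSum_odd_eq_zero {M : Ideal AlgInt} (hM : IsPModular 2 M) {h r : G}
    (hh : ∃ k : ℕ, orderOf h = 2 ^ k) (hh1 : h ≠ 1) (hr : Odd (orderOf r)) :
    secSum M h r = 0 := by
  refine secSum_eq_zero hM hh (x := 1)
    ⟨r, one_mul r, Commute.one_left r, ⟨0, by simp⟩, hr.not_two_dvd_nat⟩ ?_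
  intro h1
  exact hh1 (isConj_one_right.mp h1)

theorem sum_value_eq_zero {M : Ideal AlgInt} (hM : IsPModular 2 M) (hH : IsPGroup 2 H)
    (hab : IsMulCommutative H) (hcl : IsExtremelyClosed H) (hIH : CentHyp H)
    {x h : G} (hx : x ∈ H) (hh : h ∈ H) (hh1 : h ≠ 1) :
    ∑ χ ∈ BB M G, ((χ : G → ℂ) x * tH H χ / (χ : G → ℂ) 1 - tH H χ + (χ : G → ℂ) 1) *
      conj ((χ : G → ℂ) h) = 0 := by
  classical
  obtain ⟨r, hr, hs⟩ := exists_odd_sum hM hH hab hcl hIH hx
  have h1 : (Nat.card G : ℂ) * ∑ χ ∈ BB M G, ((χ : G → ℂ) x * tH H χ / (χ : G → ℂ) 1 - tH H χ +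
      (χ : G → ℂ) 1) * conj ((χ : G → ℂ) h) = ∑ g : G, secSum M h (r g) := by
    rw [Finset.mul_sum]
    simp_rw [secSum_eq_sum]
    rw [Finset.sum_comm]
    refine Finset.sum_congr rfl fun χ hχ => ?_
    rw [← Finset.sum_mul, hs χ (mem_BB.mp hχ)]
    ring
  have h2 : ∑ g : G, secSum M h (r g) = 0 :=
    Finset.sum_eq_zero fun g _ => secSum_odd_eq_zero hM (orderOf_two_pow hH hh) hh1 (hr g)
  rw [h2] at h1
  have hG : (Nat.card G : ℂ) ≠ 0 := Nat.cast_ne_zero.mpr Nat.card_pos.ne'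
  exact (mul_eq_zero.mp h1).resolve_left hG

/-- The sum `L(h)`. -/
noncomputable def Lv (M : Ideal AlgInt) (H : Subgroup G) [Fintype H] (h : G) : ℂ :=
  ∑ χ ∈ BB M G, tH H χ * conj ((χ : G → ℂ) h)

theorem secSum_one_eq_zero {M : Ideal AlgInt} (hM : IsPModular 2 M) {h : G}
    (hh : ∃ k : ℕ, orderOf h = 2 ^ k) (hh1 : h ≠ 1) : secSum M h 1 = 0 :=
  secSum_odd_eq_zero hM hh hh1 (by simp)

theorem sum_tau {M : Ideal AlgInt} (hM : IsPModular 2 M) (hH : IsPGroup 2 H)
    (hab : IsMulCommutative H) (hcl : IsExtremelyClosed H) (hIH : CentHyp H)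
    {x h : G} (hx : x ∈ H) (hh : h ∈ H) (hh1 : h ≠ 1) :
    ∑ χ ∈ BB M G, (tH H χ / (χ : G → ℂ) 1) * (χ : G → ℂ) x * conj ((χ : G → ℂ) h) = Lv M H h := by
  have h1 := sum_value_eq_zero hM hH hab hcl hIH (M := M) hx hh hh1
  have h2 := secSum_one_eq_zero hM (orderOf_two_pow hH hh) hh1
  rw [secSum_eq_sum] at h2
  have h3 : ∑ χ ∈ BB M G, ((χ : G → ℂ) x * tH H χ / (χ : G → ℂ) 1 - tH H χ + (χ : G → ℂ) 1) *
      conj ((χ : G → ℂ) h) = ∑ χ ∈ BB M G, (tH H χ / (χ : G → ℂ) 1) * (χ : G → ℂ) x *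
        conj ((χ : G → ℂ) h) - Lv M H h + ∑ χ ∈ BB M G, (χ : G → ℂ) 1 * conj ((χ : G → ℂ) h) := by
    unfold Lv
    rw [← Finset.sum_sub_distrib, ← Finset.sum_add_distrib]
    refine Finset.sum_congr rfl fun χ _ => ?_
    ring
  rw [h3, h2] at h1
  linear_combination h1

open Classical in
/-- The number of elements of `H` conjugate to `h`. -/
noncomputable def kk (H : Subgroup G) [Fintype H] (h : G) : ℕ :=
  (Finset.univ.filter (fun a : H => IsConj (a : G) h)).card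

theorem Lv_eq {M : Ideal AlgInt} (hM : IsPModular 2 M) (hH : IsPGroup 2 H) {h : G} (hh : h ∈ H) :
    Lv M H h = (kk H h : ℂ) * secSum M h h := by
  classical
  have h1 : Lv M H h = ∑ a : H, secSum M h a := by
    unfold Lv tH
    simp_rw [secSum_eq_sum, Finset.sum_mul]
    rw [Finset.sum_comm]
  have h2 : ∀ a : H, secSum M h a = if IsConj (a : G) h then secSum M h h else 0 := by
    intro a
    split_ifs with hc
    · obtain ⟨c, hc⟩ := isConj_iff.mp hc
      rw [← hc, secSum_conj, hc]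
    · exact secSum_eq_zero hM (orderOf_two_pow hH hh)
        (isPPart_self_of (orderOf_two_pow hH a.2) Nat.prime_two) hc
  rw [h1]
  simp_rw [h2]
  rw [Finset.sum_ite, Finset.sum_const_zero, add_zero, Finset.sum_const, nsmul_eq_mul]
  rfl

theorem secSum_self (M : Ideal AlgInt) (h : G) :
    secSum M h h = ((∑ χ ∈ BB M G, Complex.normSq ((χ : G → ℂ) h) : ℝ) : ℂ) := by
  rw [secSum_eq_sum]
  push_cast
  refine Finset.sum_congr rfl fun χ _ => ?_
  exact Complex.mul_conj _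

theorem conj_tH (χ : IrrCharacter G) : conj (tH H χ) = tH H χ := by
  obtain ⟨m, hm⟩ := exists_sum_eq χ H
  unfold tH
  rw [hm]
  simp

theorem conj_one (χ : IrrCharacter G) : conj ((χ : G → ℂ) 1) = (χ : G → ℂ) 1 := by
  obtain ⟨n, -, hn⟩ := Cfsg.Agent.Lib.Char.Complete.exists_pos_deg_of_isIrr χ.2
  rw [hn]
  simp

theorem conj_Lv {M : Ideal AlgInt} (hM : IsPModular 2 M) (hH : IsPGroup 2 H) {h : G} (hh : h ∈ H) :
    conj (Lv M H h) = Lv M H h := by
  rw [Lv_eq hM hH hh, secSum_self]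
  simp

/-- `L` is constant on the nonidentity elements of `H`. -/
theorem Lv_symm {M : Ideal AlgInt} (hM : IsPModular 2 M) (hH : IsPGroup 2 H)
    (hab : IsMulCommutative H) (hcl : IsExtremelyClosed H) (hIH : CentHyp H)
    {x h : G} (hx : x ∈ H) (hx1 : x ≠ 1) (hh : h ∈ H) (hh1 : h ≠ 1) :
    Lv M H h = Lv M H x := by
  have h1 := sum_tau hM hH hab hcl hIH (M := M) hx hh hh1
  have h2 := sum_tau hM hH hab hcl hIH (M := M) hh hx hx1
  rw [← conj_Lv hM hH hx, ← h2, map_sum, ← h1]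
  refine Finset.sum_congr rfl fun χ _ => ?_
  simp only [map_mul, map_div₀, conj_tH, conj_one, Complex.conj_conj]
  ring

section sums

variable {M : Ideal AlgInt} {L : ℂ}

/-- The first identity. -/
theorem sum_sq_eq (hM : IsPModular 2 M) (hH : IsPGroup 2 H)
    (hL : ∀ h ∈ H, h ≠ 1 → Lv M H h = L) :
    ∑ χ ∈ BB M G, (tH H χ - (χ : G → ℂ) 1) * conj (tH H χ - (χ : G → ℂ) 1) =
      ((Nat.card H : ℂ) - 1) * L := by
  classical
  have hS : ∀ χ : IrrCharacter G, tH H χ - (χ : G → ℂ) 1 =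
      ∑ a ∈ Finset.univ.erase (1 : H), (χ : G → ℂ) a := by
    intro χ
    rw [Finset.sum_erase_eq_sub (Finset.mem_univ _)]
    rfl
  have hcard : (((Finset.univ.erase (1 : H)).card : ℕ) : ℂ) = (Nat.card H : ℂ) - 1 := by
    rw [Finset.card_erase_of_mem (Finset.mem_univ _), Finset.card_univ,
      ← Nat.card_eq_fintype_card, Nat.cast_sub Nat.card_pos]
    simp
  calc ∑ χ ∈ BB M G, (tH H χ - (χ : G → ℂ) 1) * conj (tH H χ - (χ : G → ℂ) 1)
      = ∑ χ ∈ BB M G, ∑ a ∈ Finset.univ.erase (1 : H),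
          (tH H χ - (χ : G → ℂ) 1) * conj ((χ : G → ℂ) a) := by
        refine Finset.sum_congr rfl fun χ _ => ?_
        rw [← Finset.mul_sum, ← map_sum, ← hS]
    _ = ∑ a ∈ Finset.univ.erase (1 : H), ∑ χ ∈ BB M G,
          (tH H χ - (χ : G → ℂ) 1) * conj ((χ : G → ℂ) a) := Finset.sum_comm
    _ = ∑ a ∈ Finset.univ.erase (1 : H), L := by
        refine Finset.sum_congr rfl fun a ha => ?_
        have ha1 : (a : G) ≠ 1 := fun h => (Finset.ne_of_mem_erase ha) (Subtype.ext h)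
        have h1 := secSum_one_eq_zero hM (orderOf_two_pow hH a.2) ha1
        rw [secSum_eq_sum] at h1
        rw [← hL a a.2 ha1]
        unfold Lv
        simp_rw [sub_mul]
        rw [Finset.sum_sub_distrib, h1, sub_zero]
    _ = ((Nat.card H : ℂ) - 1) * L := by
        rw [Finset.sum_const, nsmul_eq_mul, hcard]

/-- The second identity. -/
theorem sum_tau_sq_eq (hM : IsPModular 2 M) (hH : IsPGroup 2 H)
    (hab : IsMulCommutative H) (hcl : IsExtremelyClosed H) (hIH : CentHyp H)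
    (hL : ∀ h ∈ H, h ≠ 1 → Lv M H h = L) :
    ∑ χ ∈ BB M G, (tH H χ / (χ : G → ℂ) 1) * (tH H χ - (χ : G → ℂ) 1) *
      conj (tH H χ - (χ : G → ℂ) 1) = ((Nat.card H : ℂ) - 1) ^ 2 * L := by
  classical
  have hS : ∀ χ : IrrCharacter G, tH H χ - (χ : G → ℂ) 1 =
      ∑ a ∈ Finset.univ.erase (1 : H), (χ : G → ℂ) a := by
    intro χ
    rw [Finset.sum_erase_eq_sub (Finset.mem_univ _)]
    rfl
  have hcard : (((Finset.univ.erase (1 : H)).card : ℕ) : ℂ) = (Nat.card H : ℂ) - 1 := by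
    rw [Finset.card_erase_of_mem (Finset.mem_univ _), Finset.card_univ,
      ← Nat.card_eq_fintype_card, Nat.cast_sub Nat.card_pos]
    simp
  calc ∑ χ ∈ BB M G, (tH H χ / (χ : G → ℂ) 1) * (tH H χ - (χ : G → ℂ) 1) *
        conj (tH H χ - (χ : G → ℂ) 1)
      = ∑ χ ∈ BB M G, ∑ x ∈ Finset.univ.erase (1 : H), ∑ a ∈ Finset.univ.erase (1 : H),
          (tH H χ / (χ : G → ℂ) 1) * (χ : G → ℂ) x * conj ((χ : G → ℂ) a) := by
        refine Finset.sum_congr rfl fun χ _ => ?_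
        simp_rw [← Finset.mul_sum]
        rw [← map_sum, ← hS, ← Finset.sum_mul, ← Finset.mul_sum, ← hS]
    _ = ∑ x ∈ Finset.univ.erase (1 : H), ∑ a ∈ Finset.univ.erase (1 : H), ∑ χ ∈ BB M G,
          (tH H χ / (χ : G → ℂ) 1) * (χ : G → ℂ) x * conj ((χ : G → ℂ) a) := by
        rw [Finset.sum_comm]
        refine Finset.sum_congr rfl fun x _ => ?_
        rw [Finset.sum_comm]
    _ = ∑ x ∈ Finset.univ.erase (1 : H), ∑ a ∈ Finset.univ.erase (1 : H), L := by
        refine Finset.sum_congr rfl fun x _ => Finset.sum_congr rfl fun a ha => ?_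
        have ha1 : (a : G) ≠ 1 := fun h => (Finset.ne_of_mem_erase ha) (Subtype.ext h)
        rw [sum_tau hM hH hab hcl hIH x.2 a.2 ha1, hL a a.2 ha1]
    _ = ((Nat.card H : ℂ) - 1) ^ 2 * L := by
        rw [Finset.sum_const, Finset.sum_const, nsmul_eq_mul, nsmul_eq_mul, hcard]
        ring

end sums

end Cfsg.Agent.Lib.ZStar.EC
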