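import Mathlib
import Cfsg.Agent.Lib.ZStar.EC.Real

/-!
# Extremely closed abelian `2`-subgroups: an involution in a class of odd length
-/

set_option autoImplicit false
set_option linter.unusedSectionVars false
set_option linter.style.haveILetI false

namespace Cfsg.Agent.Lib.ZStar.EC

open Cfsg Subgroup
open Cfsg.Agent.Lib.Blocks.Central Cfsg.Agent.Lib.Blocks.Weak Cfsg.Agent.Lib.Blocks.Third
open Cfsg.Agent.Lib.Blocks.General
open Cfsg.Agent.Lib.ZStar.Section
open scoped ComplexConjugate

universe u

variable {G : Type u} [Group G] [Fintype G] [Fintype (IrrCharacter G)]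
variable {H : Subgroup G} [Fintype H]

theorem two_dvd_card (hH : IsPGroup 2 H) (hne : H ≠ ⊥) : 2 ∣ Nat.card H := by
  obtain ⟨n, hn⟩ := hH.exists_card_eq
  rcases n with _ | n
  · exfalso
    apply hne
    apply Subgroup.eq_bot_of_card_eq
    simpa using hn
  · rw [hn]
    exact dvd_pow_self 2 (Nat.succ_ne_zero n)

/-- An involution of `H` whose class meets `H` in an odd number of elements. -/
theorem exists_involution_odd (hH : IsPGroup 2 H) (hne : H ≠ ⊥) :
    ∃ x₀ ∈ H, orderOf x₀ = 2 ∧ Odd (kk H x₀) := by
  classical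
  haveI : Fact (Nat.Prime 2) := ⟨Nat.prime_two⟩
  -- the number of involutions is odd
  set F : Finset H := Finset.univ.filter (fun a : H => a * a = 1) with hF
  have hfix : 2 ∣ F.card := by
    let f : Function.End H := fun a => a⁻¹
    have hf : f ^ 2 ^ 1 = 1 := by
      rw [pow_one, pow_two]
      funext a
      change (a⁻¹)⁻¹ = a
      simp
    have h := Equiv.Perm.card_fixedPoints_modEq hf
    have h1 : Fintype.card (Function.fixedPoints f) = F.card := by
      apply Fintype.card_of_subtype
      intro a
      simp only [hF, Finset.mem_filter, Finset.mem_univ, true_and]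
      change a * a = 1 ↔ a⁻¹ = a
      rw [inv_eq_iff_mul_eq_one]
    rw [h1] at h
    have h2 : 2 ∣ Fintype.card H := by
      rw [← Nat.card_eq_fintype_card]
      exact two_dvd_card hH hne
    exact (Nat.ModEq.dvd_iff h (dvd_refl 2)).mp h2
  have hF1 : (1 : H) ∈ F := by simp [hF]
  set I : Finset H := F.erase 1 with hI
  have hIodd : Odd I.card := by
    have h1 : I.card + 1 = F.card := Finset.card_erase_add_one hF1
    obtain ⟨k, hk⟩ := hfix
    have h2 : 0 < F.card := Finset.card_pos.mpr ⟨1, hF1⟩
    exact ⟨k - 1, by omega⟩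
  have hmemI : ∀ a : H, a ∈ I ↔ (a : G) * a = 1 ∧ (a : G) ≠ 1 := by
    intro a
    simp only [hI, hF, Finset.mem_erase, Finset.mem_filter, Finset.mem_univ, true_and]
    constructor
    · rintro ⟨h1, h2⟩
      exact ⟨congrArg Subtype.val h2, fun h3 => h1 (Subtype.ext h3)⟩
    · rintro ⟨h1, h2⟩
      exact ⟨fun h3 => h2 (congrArg Subtype.val h3), Subtype.ext h1⟩
  -- a fibre of odd length
  by_contra hno
  push Not at hno
  have hev : ∀ x ∈ I, Even (kk H x) := by
    intro x hx
    obtain ⟨h1, h2⟩ := (hmemI x).mp hx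
    have h3 : orderOf (x : G) = 2 := by
      apply orderOf_eq_prime (by rw [pow_two]; exact h1) h2
    have h4 := hno x x.2 h3
    exact Nat.not_odd_iff_even.mp h4
  set c : H → ConjClasses G := fun a => ConjClasses.mk (a : G) with hc
  have h5 := Finset.card_eq_sum_card_fiberwise (f := c) (s := I) (t := I.image c)
    (fun a ha => Finset.mem_coe.mpr (Finset.mem_image_of_mem c ha))
  have h6 : Even (∑ b ∈ I.image c, (I.filter (fun a => c a = b)).card) := by
    apply Finset.even_sum
    intro b hb
    obtain ⟨x, hx, rfl⟩ := Finset.mem_image.mp hb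
    have h7 : I.filter (fun a => c a = c x) = Finset.univ.filter (fun a : H => IsConj (a : G) x) := by
      ext a
      simp only [Finset.mem_filter, Finset.mem_univ, true_and, hc, ConjClasses.mk_eq_mk_iff_isConj]
      constructor
      · exact fun h => h.2
      · intro h
        refine ⟨?_, h⟩
        obtain ⟨h1, h2⟩ := (hmemI x).mp hx
        obtain ⟨t, ht⟩ := isConj_iff.mp h
        rw [hmemI]
        have e1 : (a : G) = t⁻¹ * x * t := by rw [← ht]; group
        constructor
        · rw [e1]
          have e2 : t⁻¹ * (x : G) * t * (t⁻¹ * x * t) = t⁻¹ * (x * x) * t := by group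
          rw [e2, h1]
          group
        · intro h3
          apply h2
          rw [← ht, h3]
          group
    rw [h7]
    exact hev x hx
  rw [← h5] at h6
  exact (Nat.not_even_iff_odd.mpr hIodd) h6

/-- The value at an involution is an integer. -/
theorem exists_int_value (χ : IrrCharacter G) {x : G} (hx : orderOf x = 2) :
    ∃ a : ℤ, (χ : G → ℂ) x = a := by
  classical
  letI : Fintype (zpowers x) := Fintype.ofFinite _
  obtain ⟨m, hm⟩ := exists_sum_eq χ (zpowers x)
  obtain ⟨d, -, hd⟩ := Cfsg.Agent.Lib.Char.Complete.exists_pos_deg_of_isIrr χ.2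
  have hx2 : x ^ 2 = 1 := by rw [← hx]; exact pow_orderOf_eq_one x
  have hx1 : x ≠ 1 := by
    intro h
    rw [h, orderOf_one] at hx
    omega
  have hcard : Nat.card (zpowers x) = 2 := by rw [Nat.card_zpowers, hx]
  let a1 : zpowers x := ⟨1, one_mem _⟩
  let a2 : zpowers x := ⟨x, mem_zpowers x⟩
  have hne : a1 ≠ a2 := fun h => hx1 (congrArg Subtype.val h).symm
  have huniv : (Finset.univ : Finset (zpowers x)) = {a1, a2} := by
    symm
    apply Finset.eq_univ_of_card
    rw [Finset.card_pair hne, ← Nat.card_eq_fintype_card, hcard]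
  rw [huniv, Finset.sum_pair hne, hcard] at hm
  refine ⟨2 * m - d, ?_⟩
  change (χ : G → ℂ) 1 + (χ : G → ℂ) x = _ at hm
  rw [hd] at hm
  push_cast
  linear_combination hm

end Cfsg.Agent.Lib.ZStar.EC
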